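import Groth.Agent.Lib.SemiAbExt.Torus
import Groth.Agent.Lib.TorsorNorm.Complement
import Groth.Agent.Lib.CommAlgGrp.Basic
import Groth.Agent.Lib.SemiAbIsog.Image
import Groth.Agent.Lib.TorusPow.Basic
import Groth.Agent.H52.SemiAbelian
import Groth.Agent.S7982
import Groth.Agent.S8023

/-!
# Semiabelian varieties: images and extensions
-/

set_option autoImplicit false
set_option backward.isDefEq.respectTransparency false
set_option linter.style.haveILetI false
universe u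

open CategoryTheory CategoryTheory.Limits MonoidalCategory CartesianMonoidalCategory MonObj AlgebraicGeometry
open Groth.Agent.Lib Groth.Agent.Lib.GrpQ

namespace Groth.Agent.Lib.SemiAbExt

variable {k : Type u} [Field k]

/-- A semiabelian variety: an extension of an abelian variety by a torus. -/
def IsSA (G : Over (Spec (CommRingCat.of k))) [GrpObj G] : Prop :=
  ∃ (T : Over (Spec (CommRingCat.of k))) (_ : GrpObj T) (i : T ⟶ G) (A : Over (Spec (CommRingCat.of k))) (_ : GrpObj A) (q : G ⟶ A),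
    IsMonHom i ∧ IsClosedImmersion i.left ∧ Red.IsTorus T ∧ IsMonHom q ∧ Surjective q.left ∧ Flat q.left ∧
    AlgGrp.IsKernel i q ∧ IsProper A.hom ∧ Smooth A.hom ∧ ConnectedSpace ↥A.left

theorem IsSA.props {G : Over (Spec (CommRingCat.of k))} [GrpObj G] [LocallyOfFiniteType G.hom]
    [QuasiCompact G.hom] (h : IsSA G) :
    Smooth G.hom ∧ ConnectedSpace G.left ∧ IsCommMonObj G := by
  obtain ⟨T, _, i, A, _, q, hi, hci, hT, hq, hqs, hqf, hK, hp, hsm, hcA⟩ := h
  haveI := hi; haveI := hci; haveI := hq; haveI := hqs; haveI := hqf; haveI := hp; haveI := hsm; haveI := hcA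
  obtain ⟨hs, hgi⟩ := Groth.Agent.H52.SemiAbelian.smooth_geometricallyIntegral i q hK hT
  haveI := hs; haveI := hgi
  haveI : IsIntegral G.left := GeometricallyIntegral.isIntegral_of_subsingleton G.hom
  exact ⟨hs, inferInstance, Groth.Agent.H52.SemiAbelian.isCommMonObj i q hK hT⟩

theorem lfp_of_hom {X Y : Over (Spec (CommRingCat.of k))} (f : X ⟶ Y) [LocallyOfFiniteType X.hom]
    [LocallyOfFiniteType Y.hom] : LocallyOfFinitePresentation f.left := by
  haveI : LocallyOfFinitePresentation X.hom := LocallyOfFinitePresentation.iff_locallyOfFiniteType.2 ‹_›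
  exact Flat55.FibreTransfer.locallyOfFinitePresentation_of_comp (g := Y.hom)
    (by rw [Over.w f]; infer_instance) inferInstance

theorem surjective_of_lift {X Y Y' : Over (Spec (CommRingCat.of k))} (f : X ⟶ Y) (c : Y' ⟶ Y) [Surjective c.left]
    (x : Y' ⟶ X) (h : x ≫ f = c) : Surjective f.left := by
  haveI : Surjective (x.left ≫ f.left) := by rw [← Over.comp_left, h]; infer_instance
  exact Surjective.of_comp x.left f.left

theorem proper_of_surjective {X Y : Over (Spec (CommRingCat.of k))} [GrpObj Y] [IsProper X.hom]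
    [LocallyOfFiniteType Y.hom] [QuasiCompact Y.hom] (f : X ⟶ Y) [Surjective f.left] : IsProper Y.hom := by
  haveI : IsSeparated Y.hom := Groth.Agent.Lib.GrpSch.isSeparated_of_field Y
  haveI : UniversallyClosed (f.left ≫ Y.hom) := by rw [Over.w f]; infer_instance
  haveI : UniversallyClosed Y.hom := UniversallyClosed.of_comp_surjective f.left Y.hom
  exact { }

theorem kernel_comp_assoc {N X Q Z : Over (Spec (CommRingCat.of k))} [GrpObj Q] [GrpObj Z] {i : N ⟶ X} {q : X ⟶ Q}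
    (hK : AlgGrp.IsKernel i q) (h : Q ⟶ Z) [IsMonHom h] : i ≫ q ≫ h = 1 := by
  rw [← Category.assoc, kernel_comp hK, MonObj.one_comp]

theorem kernel_comp' {N₁ N X Q : Over (Spec (CommRingCat.of k))} [GrpObj Q] {j : N₁ ⟶ N} {i : N ⟶ X} {q : X ⟶ Q}
    (hK : AlgGrp.IsKernel (j ≫ i) q) : j ≫ i ≫ q = 1 := by
  rw [← Category.assoc, kernel_comp hK]

/-- Quotients of smooth connected commutative groups. -/
theorem exists_quot {G K : Over (Spec (CommRingCat.of k))} [GrpObj G] [GrpObj K] [IsCommMonObj G]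
    [Smooth G.hom] [QuasiCompact G.hom] [ConnectedSpace G.left] (i : K ⟶ G) [IsMonHom i] [IsClosedImmersion i.left] :
    ∃ (Q : Over (Spec (CommRingCat.of k))) (_ : GrpObj Q) (_ : IsCommMonObj Q) (q : G ⟶ Q), IsMonHom q ∧
      Flat q.left ∧ Surjective q.left ∧ LocallyOfFinitePresentation q.left ∧ AlgGrp.IsKernel i q ∧
      Smooth Q.hom ∧ QuasiCompact Q.hom ∧ ConnectedSpace Q.left := by
  haveI : LocallyOfFiniteType K.hom := by rw [← Over.w i]; infer_instance
  haveI : Mono i := Over.mono_of_mono_left i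
  haveI : Flat K.hom := SpHomog.flat_to_field _
  have hN : AlgGrp.IsNormalHom i := fun T g n => ⟨n, by rw [_root_.mul_comm g, mul_inv_cancel_right]⟩
  obtain ⟨Q, gQ, q, hq, hf, hs, hl, hK, -, -, hsm⟩ := Groth.Agent.S3030.result k K G i hN
  haveI := hq; haveI := hf; haveI := hs; haveI := hl
  refine ⟨Q, gQ, CommAlgGrp.isCommMonObj_of_cover q, q, hq, hf, hs, hl, hK, hsm inferInstance, ?_,
    q.left.surjective.connectedSpace q.left.continuous⟩
  haveI : QuasiCompact (q.left ≫ Q.hom) := by rw [Over.w]; infer_instance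
  exact Transfer.quasiCompact_of_comp_surjective q.left Q.hom

theorem isMonHom_comm_pow {G : Over (Spec (CommRingCat.of k))} [GrpObj G] [IsCommMonObj G] (n : ℕ) :
    IsMonHom ((𝟙 G : G ⟶ G) ^ n) :=
  Groth.Agent.H87.HomDS.isMonHom_of_points _ fun X a b => by
    rw [MonObj.comp_pow, MonObj.comp_pow, MonObj.comp_pow, Category.comp_id, Category.comp_id, Category.comp_id,
      _root_.mul_pow]

/-- An extension of a torus by a torus is a torus. -/
theorem isTorus_ext {W T₁ T₂ : Over (Spec (CommRingCat.of k))} [GrpObj W] [GrpObj T₁] [GrpObj T₂] [IsCommMonObj W]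
    [LocallyOfFiniteType W.hom] [QuasiCompact W.hom]
    (i : T₁ ⟶ W) [IsMonHom i] [IsClosedImmersion i.left] (p : W ⟶ T₂) [IsMonHom p] [Surjective p.left] [Flat p.left]
    (hK : AlgGrp.IsKernel i p) (h₁ : Red.IsTorus T₁) (h₂ : Red.IsTorus T₂) :
    Red.IsTorus W ∧ Smooth W.hom ∧ ConnectedSpace W.left := by
  haveI : Smooth T₁.hom := Tori.Basic.smooth_of_isTorus h₁
  haveI : Smooth T₂.hom := Tori.Basic.smooth_of_isTorus h₂
  haveI : IsAffineHom T₁.hom := Tori.Basic.isAffineHom_of_isTorus h₁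
  haveI : IsAffineHom T₂.hom := Tori.Basic.isAffineHom_of_isTorus h₂
  haveI : IsAffine T₁.left := isAffine_of_isAffineHom T₁.hom
  haveI : IsAffine T₂.left := isAffine_of_isAffineHom T₂.hom
  haveI : ConnectedSpace T₁.left := Groth.Agent.H52.SemiAbelian.connectedSpace_of_isTorus T₁ h₁
  haveI : ConnectedSpace T₂.left := Groth.Agent.H52.SemiAbelian.connectedSpace_of_isTorus T₂ h₂
  haveI : QuasiCompact T₁.hom := inferInstance
  haveI : QuasiCompact T₂.hom := inferInstance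
  obtain ⟨haff, hsm, hconn⟩ := Groth.Agent.S7982.result k T₁ W T₂ i p hK
  haveI : IsAffine W.left := haff inferInstance inferInstance
  haveI : Smooth W.hom := hsm inferInstance inferInstance
  haveI : ConnectedSpace W.left := hconn inferInstance inferInstance
  haveI : IsMonHom (𝟙 W) := inferInstance
  haveI : IsClosedImmersion (𝟙 W : W ⟶ W).left := by rw [Over.id_left]; infer_instance
  have hMT : SGA3x.IsMultTypeFT W :=
    (Groth.Agent.S8023.result k W W T₁ T₂ (𝟙 W) (fun T g n => ⟨n, by rw [_root_.mul_comm g, mul_inv_cancel_right]⟩)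
      i (fun T g n => ⟨n, by rw [_root_.mul_comm g, mul_inv_cancel_right]⟩) i (Category.comp_id i) p hK
      (SemiAbIsog.Basic.isMultTypeFT_of_isTorus h₁) (SemiAbIsog.Basic.isMultTypeFT_of_isTorus h₂)).2
  refine ⟨isTorus_of_cov W hMT fun n hn => ?_, inferInstance, inferInstance⟩
  haveI := isMonHom_comm_pow (G := W) n
  haveI : Surjective ((𝟙 W : W ⟶ W) ^ n).left := by
    haveI := lfp_of_hom p
    haveI := TorusPow.Basic.surjective_pow h₂ hn
    haveI : Mono i := Over.mono_of_mono_left i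
    haveI : IsCommMonObj T₁ := CommAlgGrp.isCommMonObj_of_mono i
    haveI := isMonHom_comm_pow (G := T₁) n
    haveI : IsCommMonObj T₂ := CommAlgGrp.isCommMonObj_of_cover p
    haveI := isMonHom_comm_pow (G := T₂) n
    haveI : Flat ((𝟙 T₂ : T₂ ⟶ T₂) ^ n).left := GrpQ.flat_of_surjective_of_smooth _
    haveI := lfp_of_hom ((𝟙 T₂ : T₂ ⟶ T₂) ^ n)
    haveI := TorusPow.Basic.surjective_pow h₁ hn
    haveI : Flat ((𝟙 T₁ : T₁ ⟶ T₁) ^ n).left := GrpQ.flat_of_surjective_of_smooth _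
    haveI := lfp_of_hom ((𝟙 T₁ : T₁ ⟶ T₁) ^ n)
    obtain ⟨X₁, c₁, t, ht, _, _, _⟩ := GrpQ.ThirdIso.exists_lift ((𝟙 T₂ : T₂ ⟶ T₂) ^ n) p
    obtain ⟨X₂, c₂, w, hw, _, _, _⟩ := GrpQ.ThirdIso.exists_lift p t
    have hd : ((c₂ ≫ c₁) * (w ^ n)⁻¹) ≫ p = 1 := by
      rw [MonObj.mul_comp, GrpObj.inv_comp, MonObj.pow_comp, hw, Category.assoc, ← ht, MonObj.comp_pow,
        Category.comp_id, MonObj.comp_pow, mul_inv_cancel]
    obtain ⟨r, hr⟩ := (mem_kernel hK _).2 hd
    obtain ⟨X₃, c₃, t₁, ht₁, _, _, _⟩ := GrpQ.ThirdIso.exists_lift ((𝟙 T₁ : T₁ ⟶ T₁) ^ n) r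
    haveI : Surjective (c₃ ≫ c₂ ≫ c₁).left := by rw [Over.comp_left, Over.comp_left]; infer_instance
    refine surjective_of_lift _ (c₃ ≫ c₂ ≫ c₁) ((c₃ ≫ w) * (t₁ ≫ i)) ?_
    rw [MonObj.comp_pow, Category.comp_id, _root_.mul_pow, ← MonObj.comp_pow, ← MonObj.pow_comp]
    have : t₁ ^ n = c₃ ≫ r := by rw [← ht₁, MonObj.comp_pow, Category.comp_id]
    rw [this, Category.assoc, hr, ← MonObj.comp_mul, mul_comm, inv_mul_cancel_right]
  haveI : Flat ((𝟙 W : W ⟶ W) ^ n).left := GrpQ.flat_of_surjective_of_smooth _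
  exact ⟨inferInstanceAs (Flat ((𝟙 W : W ⟶ W) ^ n).left), inferInstanceAs (Surjective ((𝟙 W : W ⟶ W) ^ n).left),
    GrpQ.quasiCompact_left _⟩

/-- The image of a semiabelian variety is semiabelian. -/
theorem IsSA.image {S H : Over (Spec (CommRingCat.of k))} [GrpObj S] [GrpObj H] (hS : IsSA S)
    [LocallyOfFiniteType S.hom] [QuasiCompact S.hom] [Smooth H.hom] [QuasiCompact H.hom] (f : S ⟶ H) [IsMonHom f] [Surjective f.left] :
    IsSA H := by
  obtain ⟨hsS, hcS, hS'⟩ := hS.props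
  obtain ⟨T, _, i, A, _, q, hi, hci, hT, hq, hqs, hqf, hK, hp, hsm, hcA⟩ := hS
  haveI := hi; haveI := hci; haveI := hq; haveI := hqs; haveI := hqf; haveI := hp; haveI := hsm; haveI := hcA
  haveI := hsS; haveI := hcS; haveI := hS'
  haveI : Flat f.left := GrpQ.flat_of_surjective_of_smooth f
  haveI := lfp_of_hom f
  haveI : IsCommMonObj H := CommAlgGrp.isCommMonObj_of_cover f
  haveI : ConnectedSpace H.left := f.left.surjective.connectedSpace f.left.continuous
  haveI : Smooth T.hom := Tori.Basic.smooth_of_isTorus hT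
  haveI : ConnectedSpace T.left := Groth.Agent.H52.SemiAbelian.connectedSpace_of_isTorus T hT
  haveI : QuasiCompact T.hom := by rw [← Over.w i]; infer_instance
  obtain ⟨C, _, p, c, hpm, hcm, hpc, hcc, hps, hpf, hpl, hCs, hCc, hCq⟩ := SemiAbIsog.Image.exists_image_smooth (i ≫ f)
  haveI := hpm; haveI := hcm; haveI := hcc; haveI := hps; haveI := hpf; haveI := hCs; haveI := hCc; haveI := hCq
  haveI : Epi p := H87.CentralExt.epi_of_cover p
  have hC : Red.IsTorus C := SemiAbIsog.Basic.isTorus_quotient hT p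
  obtain ⟨B, _, _, b, hbm, hbf, hbs, hbl, hbK, hBs, hBq, hBc⟩ := exists_quot c
  haveI := hbm; haveI := hbf; haveI := hbs; haveI := hbl; haveI := hBs; haveI := hBq; haveI := hBc
  haveI := lfp_of_hom q
  obtain ⟨r, hrm, hr⟩ := CommAlgGrp.exists_desc_of_kernel q hK (f ≫ b) (by
    rw [← Category.assoc, ← hpc, Category.assoc, kernel_comp hbK, MonObj.comp_one])
  haveI : Surjective r.left := by
    haveI : Surjective (q.left ≫ r.left) := by rw [← Over.comp_left, hr, Over.comp_left]; infer_instance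
    exact Surjective.of_comp q.left r.left
  exact ⟨C, inferInstance, c, B, inferInstance, b, hcm, hcc, hC, hbm, hbs, hbf, hbK, proper_of_surjective r,
    hBs, hBc⟩

/-- An extension of semiabelian varieties is semiabelian (commutative case). -/
theorem IsSA.ext' {S₁ G S₂ : Over (Spec (CommRingCat.of k))} [GrpObj S₁] [GrpObj G] [GrpObj S₂] [IsCommMonObj G]
    [LocallyOfFiniteType G.hom] [QuasiCompact G.hom]
    (j : S₁ ⟶ G) [IsMonHom j] [IsClosedImmersion j.left] (p : G ⟶ S₂) [IsMonHom p] [Surjective p.left] [Flat p.left]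
    [LocallyOfFiniteType S₂.hom] [QuasiCompact S₂.hom]
    (hK : AlgGrp.IsKernel j p) (h₁ : IsSA S₁) (h₂ : IsSA S₂) : IsSA G := by
  haveI : LocallyOfFiniteType S₁.hom := by rw [← Over.w j]; infer_instance
  haveI : QuasiCompact S₁.hom := by rw [← Over.w j]; infer_instance
  obtain ⟨hs₁, hc₁, hm₁⟩ := h₁.props
  obtain ⟨hs₂, hc₂, hm₂⟩ := h₂.props
  haveI := hs₁; haveI := hc₁; haveI := hm₁; haveI := hs₂; haveI := hc₂; haveI := hm₂
  haveI : QuasiCompact S₁.hom := by rw [← Over.w j]; infer_instance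
  haveI : Mono j := Over.mono_of_mono_left j
  obtain ⟨-, hsm, hconn⟩ := Groth.Agent.S7982.result k S₁ G S₂ j p hK
  haveI : Smooth G.hom := hsm inferInstance inferInstance
  haveI : ConnectedSpace G.left := hconn inferInstance inferInstance
  obtain ⟨T₁, _, i₁, A₁, _, q₁, hi₁, hci₁, hT₁, hq₁, hqs₁, hqf₁, hK₁, hp₁, hsA₁, hcA₁⟩ := h₁
  obtain ⟨T₂, _, i₂, A₂, _, q₂, hi₂, hci₂, hT₂, hq₂, hqs₂, hqf₂, hK₂, hp₂, hsA₂, hcA₂⟩ := h₂
  haveI := hi₁; haveI := hci₁; haveI := hq₁; haveI := hqs₁; haveI := hqf₁; haveI := hp₁; haveI := hsA₁; haveI := hcA₁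
  haveI := hi₂; haveI := hci₂; haveI := hq₂; haveI := hqs₂; haveI := hqf₂; haveI := hp₂; haveI := hsA₂; haveI := hcA₂
  haveI : Smooth T₁.hom := Tori.Basic.smooth_of_isTorus hT₁
  haveI : Smooth T₂.hom := Tori.Basic.smooth_of_isTorus hT₂
  haveI : ConnectedSpace T₂.left := Groth.Agent.H52.SemiAbelian.connectedSpace_of_isTorus T₂ hT₂
  haveI : QuasiCompact T₁.hom := by rw [← Over.w i₁]; infer_instance
  haveI : QuasiCompact T₂.hom := by rw [← Over.w i₂]; infer_instance
  haveI := lfp_of_hom q₁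
  haveI := lfp_of_hom p
  haveI : IsSeparated A₂.hom := inferInstance
  haveI := lfp_of_hom q₂
  -- the preimage of the torus of `S₂`
  obtain ⟨W₀, _, w₀, hw₀, hw₀c, hK₀, -⟩ := GrpQ.exists_kernel (q := p ≫ q₂)
  haveI := hw₀; haveI := hw₀c
  haveI : Mono w₀ := Over.mono_of_mono_left w₀
  haveI : IsCommMonObj W₀ := CommAlgGrp.isCommMonObj_of_mono w₀
  haveI : LocallyOfFiniteType W₀.hom := by rw [← Over.w w₀]; infer_instance
  haveI : QuasiCompact W₀.hom := by rw [← Over.w w₀]; infer_instance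
  haveI : Mono i₂ := Over.mono_of_mono_left i₂
  obtain ⟨p₀, hp₀⟩ := (mem_kernel hK₂ (w₀ ≫ p)).2 (by rw [Category.assoc, kernel_comp hK₀])
  haveI : IsMonHom p₀ := CommAlgGrp.isMonHom_of_comp_mono i₂ (w₀ ≫ p) p₀ hp₀
  haveI : Surjective p₀.left := by
    obtain ⟨X₁, c₁, g, hg, _, _, _⟩ := GrpQ.ThirdIso.exists_lift p i₂
    obtain ⟨w, hw⟩ := (mem_kernel hK₀ g).2 (by
      rw [← Category.assoc, hg, Category.assoc, kernel_comp hK₂, MonObj.comp_one])
    refine surjective_of_lift p₀ c₁ w ?_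
    rw [← cancel_mono i₂, Category.assoc, hp₀, ← Category.assoc, hw, hg]
  haveI : Flat p₀.left := GrpQ.flat_of_surjective_of_smooth p₀
  haveI := lfp_of_hom p₀
  obtain ⟨j₀, hj₀⟩ := (mem_kernel hK₀ j).2 (by rw [← Category.assoc, kernel_comp hK, MonObj.one_comp])
  haveI : IsMonHom j₀ := CommAlgGrp.isMonHom_of_comp_mono w₀ j j₀ hj₀
  haveI : IsClosedImmersion j₀.left := by
    haveI : IsClosedImmersion (j₀.left ≫ w₀.left) := by rw [← Over.comp_left, hj₀]; infer_instance
    exact IsClosedImmersion.of_comp j₀.left w₀.left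
  haveI : Mono j₀ := Over.mono_of_mono_left j₀
  have hK₀' : AlgGrp.IsKernel j₀ p₀ := isKernel_of j₀
    (by rw [← cancel_mono i₂, Category.assoc, hp₀, reassoc_of% hj₀, kernel_comp hK, MonObj.one_comp])
    (fun T x hx => by
      obtain ⟨s, hs⟩ := (mem_kernel hK (x ≫ w₀)).2 (by
        rw [Category.assoc, ← hp₀, ← Category.assoc, hx, MonObj.one_comp])
      exact ⟨s, by rw [← cancel_mono w₀, Category.assoc, hj₀, hs]⟩)
  obtain ⟨-, hsm₀, hconn₀⟩ := Groth.Agent.S7982.result k S₁ W₀ T₂ j₀ p₀ hK₀'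
  haveI : Smooth W₀.hom := hsm₀ inferInstance inferInstance
  haveI : ConnectedSpace W₀.left := hconn₀ inferInstance inferInstance
  haveI : IsClosedImmersion (i₁ ≫ j₀).left := by rw [Over.comp_left]; infer_instance
  obtain ⟨M, _, _, π, hπm, hπf, hπs, hπl, hπK, hMs, hMq, hMc⟩ := exists_quot (i₁ ≫ j₀)
  haveI := hπm; haveI := hπf; haveI := hπs; haveI := hπl; haveI := hMs; haveI := hMq; haveI := hMc
  obtain ⟨α, hαm, hα⟩ := CommAlgGrp.exists_desc_of_kernel q₁ hK₁ (j₀ ≫ π) (by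
    rw [← Category.assoc, kernel_comp hπK])
  haveI := hαm
  obtain ⟨pM, hpMm, hpM⟩ := CommAlgGrp.exists_desc_of_kernel π hπK p₀ (by
    rw [Category.assoc, kernel_comp hK₀', MonObj.comp_one])
  haveI := hpMm
  haveI : QuasiCompact A₁.hom := inferInstance
  obtain ⟨A, _, pA, a, hpAm, ham, hpa, hac, hpAs, -, -, hAs, hAc, hAq⟩ := SemiAbIsog.Image.exists_image_smooth α
  haveI := hpAm; haveI := ham; haveI := hac; haveI := hpAs; haveI := hAs; haveI := hAc; haveI := hAq
  haveI : IsProper A.hom := proper_of_surjective pA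
  obtain ⟨ψ, hψ, n, hn, haψ⟩ := TorsorNorm.exists_norm_kernel (G := M) a
  haveI := hψ
  haveI := isMonHom_comm_pow (G := M) n
  obtain ⟨χ, hχ⟩ : ∃ χ : M ⟶ M, χ = (𝟙 M) ^ n * (ψ ≫ a)⁻¹ := ⟨_, rfl⟩
  have hχx : ∀ {X : Over (Spec (CommRingCat.of k))} (x : X ⟶ M), x ≫ χ = x ^ n * (x ≫ ψ ≫ a)⁻¹ := by
    intro X x
    rw [hχ, MonObj.comp_mul, GrpObj.comp_inv, MonObj.comp_pow, Category.comp_id]
  haveI : IsMonHom χ := Groth.Agent.H87.HomDS.isMonHom_of_points χ fun X x y => by
    rw [hχx, hχx, hχx, MonObj.mul_comp, _root_.mul_pow, mul_inv, _root_.mul_mul_mul_comm]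
  obtain ⟨s, hsm', hs⟩ := CommAlgGrp.exists_desc_of_kernel p₀ hK₀' (π ≫ χ) (by
    rw [← Category.assoc, ← hα, Category.assoc, ← hpa, Category.assoc, hχx, ← Category.assoc a ψ a, haψ,
      MonObj.pow_comp, Category.id_comp, mul_inv_cancel, MonObj.comp_one, MonObj.comp_one])
  haveI := hsm'
  haveI : Epi p₀ := H87.CentralExt.epi_of_cover p₀
  haveI : Epi q₁ := H87.CentralExt.epi_of_cover q₁
  haveI : Epi pA := by
    haveI : Flat pA.left := GrpQ.flat_of_surjective_of_smooth pA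
    exact H87.CentralExt.epi_of_cover pA
  have haM : a ≫ pM = 1 := by
    rw [← cancel_epi pA, ← Category.assoc, hpa, ← cancel_epi q₁, reassoc_of% hα, hpM, kernel_comp hK₀',
      MonObj.comp_one, MonObj.comp_one]
  have hsp : s ≫ pM = (𝟙 T₂ : T₂ ⟶ T₂) ^ n := by
    rw [← cancel_epi p₀, reassoc_of% hs, hχ, MonObj.mul_comp, GrpObj.inv_comp, Category.assoc, haM,
      MonObj.comp_one, inv_one, _root_.mul_one, MonObj.pow_comp, Category.id_comp, MonObj.comp_pow, hpM,
      MonObj.comp_pow, Category.comp_id]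
  -- the torus
  obtain ⟨T', _, pT, c, hpTm, hcm, hpc, hcc, hpTs, hpTf, hpTl, hT's, hT'c, hT'q⟩ :=
    SemiAbIsog.Image.exists_image_smooth s
  haveI := hpTm; haveI := hcm; haveI := hcc; haveI := hpTs; haveI := hpTf; haveI := hT's; haveI := hT'c; haveI := hT'q
  haveI : Mono c := Over.mono_of_mono_left c
  have hT' : Red.IsTorus T' := SemiAbIsog.Basic.isTorus_quotient hT₂ pT
  obtain ⟨B₀, _, _, b₀, hb₀m, hb₀f, hb₀s, hb₀l, hb₀K, hB₀s, hB₀q, hB₀c⟩ := exists_quot c
  haveI := hb₀m; haveI := hb₀f; haveI := hb₀s; haveI := hB₀s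
  haveI : IsSeparated B₀.hom := Groth.Agent.Lib.GrpSch.isSeparated_of_field B₀
  obtain ⟨W, _, w, hwm, hwc, hKW, -⟩ := GrpQ.exists_kernel (q := π ≫ b₀)
  haveI := hwm; haveI := hwc
  haveI : Mono w := Over.mono_of_mono_left w
  haveI : IsCommMonObj W := CommAlgGrp.isCommMonObj_of_mono w
  haveI : LocallyOfFiniteType W.hom := by rw [← Over.w w]; infer_instance
  haveI : QuasiCompact W.hom := by rw [← Over.w w]; infer_instance
  obtain ⟨pW, hpW⟩ := (mem_kernel hb₀K (w ≫ π)).2 (by rw [Category.assoc, kernel_comp hKW])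
  haveI : IsMonHom pW := CommAlgGrp.isMonHom_of_comp_mono c (w ≫ π) pW hpW
  haveI : Surjective pW.left := by
    obtain ⟨X₁, c₁, g, hg, _, _, _⟩ := GrpQ.ThirdIso.exists_lift π c
    obtain ⟨v, hv⟩ := (mem_kernel hKW g).2 (by
      rw [← Category.assoc, hg, Category.assoc, kernel_comp hb₀K, MonObj.comp_one])
    refine surjective_of_lift pW c₁ v ?_
    rw [← cancel_mono c, Category.assoc, hpW, ← Category.assoc, hv, hg]
  haveI : Flat pW.left := GrpQ.flat_of_surjective_of_smooth pW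
  obtain ⟨iW, hiW⟩ := (mem_kernel hKW (i₁ ≫ j₀)).2 (by
    rw [← Category.assoc, kernel_comp hπK, MonObj.one_comp])
  haveI : IsMonHom iW := CommAlgGrp.isMonHom_of_comp_mono w (i₁ ≫ j₀) iW hiW
  haveI : IsClosedImmersion iW.left := by
    haveI : IsClosedImmersion (iW.left ≫ w.left) := by rw [← Over.comp_left, hiW]; infer_instance
    exact IsClosedImmersion.of_comp iW.left w.left
  haveI : Mono iW := Over.mono_of_mono_left iW
  have hKW' : AlgGrp.IsKernel iW pW := isKernel_of iW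
    (by rw [← cancel_mono c, Category.assoc, hpW, reassoc_of% hiW, kernel_comp' hπK, MonObj.one_comp])
    (fun T x hx => by
      obtain ⟨t, ht⟩ := (mem_kernel hπK (x ≫ w)).2 (by
        rw [Category.assoc, ← hpW, ← Category.assoc, hx, MonObj.one_comp])
      exact ⟨t, by rw [← cancel_mono w, Category.assoc, hiW, ht]⟩)
  obtain ⟨hW, hWs, hWc⟩ := isTorus_ext iW pW hKW' hT₁ hT'
  -- the quotient
  haveI : IsClosedImmersion (w ≫ w₀).left := by rw [Over.comp_left]; infer_instance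
  obtain ⟨B, _, _, b, hbm, hbf, hbs, hbl, hbK, hBs, hBq, hBc⟩ := exists_quot (w ≫ w₀)
  haveI := hbm; haveI := hbf; haveI := hbs; haveI := hbl; haveI := hBs; haveI := hBq; haveI := hBc
  obtain ⟨r, hrm, hr⟩ := CommAlgGrp.exists_desc_of_kernel b hbK (p ≫ q₂) (by
    rw [Category.assoc, kernel_comp hK₀, MonObj.comp_one])
  haveI := hrm
  haveI : Surjective r.left := by
    haveI : Surjective (b.left ≫ r.left) := by
      rw [← Over.comp_left, hr, Over.comp_left]; infer_instance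
    exact Surjective.of_comp b.left r.left
  haveI : Flat r.left := GrpQ.flat_of_surjective_of_smooth r
  haveI : IsSeparated A₂.hom := inferInstance
  obtain ⟨R, _, ρ, hρm, hρc, hKr, -⟩ := GrpQ.exists_kernel (q := r)
  haveI := hρm; haveI := hρc
  haveI : Mono ρ := Over.mono_of_mono_left ρ
  haveI : LocallyOfFiniteType R.hom := by rw [← Over.w ρ]; infer_instance
  haveI : QuasiCompact R.hom := by rw [← Over.w ρ]; infer_instance
  obtain ⟨v, hv⟩ := (mem_kernel hKr (j ≫ b)).2 (by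
    rw [Category.assoc, hr, ← Category.assoc, kernel_comp hK, MonObj.one_comp])
  haveI : IsMonHom v := CommAlgGrp.isMonHom_of_comp_mono ρ (j ≫ b) v hv
  haveI : Surjective v.left := by
    obtain ⟨X₁, c₁, g, hg, _, _, _⟩ := GrpQ.ThirdIso.exists_lift b ρ
    obtain ⟨g₀, hg₀⟩ := (mem_kernel hK₀ g).2 (by
      rw [← hr, ← Category.assoc, hg, Category.assoc, kernel_comp hKr, MonObj.comp_one])
    haveI : Surjective ((𝟙 T₂ : T₂ ⟶ T₂) ^ n).left := TorusPow.Basic.surjective_pow hT₂ hn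
    haveI : IsCommMonObj T₂ := CommAlgGrp.isCommMonObj_of_cover p₀
    haveI := isMonHom_comm_pow (G := T₂) n
    haveI : Flat ((𝟙 T₂ : T₂ ⟶ T₂) ^ n).left := GrpQ.flat_of_surjective_of_smooth _
    haveI := lfp_of_hom ((𝟙 T₂ : T₂ ⟶ T₂) ^ n)
    obtain ⟨X₂, c₂, t, ht, _, _, _⟩ := GrpQ.ThirdIso.exists_lift ((𝟙 T₂ : T₂ ⟶ T₂) ^ n) (g₀ ≫ p₀)
    obtain ⟨X₃, c₃, g', hg', _, _, _⟩ := GrpQ.ThirdIso.exists_lift π (t ≫ s)
    have hd : ((c₃ ≫ c₂ ≫ g₀) * g'⁻¹) ≫ p₀ = 1 := by
      have e1 : g' ≫ p₀ = c₃ ≫ c₂ ≫ g₀ ≫ p₀ := by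
        rw [← hpM, reassoc_of% hg', hsp, ht, ← hpM]
      rw [MonObj.mul_comp, GrpObj.inv_comp, e1]
      simp only [Category.assoc, mul_inv_cancel]
    obtain ⟨s₁, hs₁⟩ := (mem_kernel hK₀' _).2 hd
    obtain ⟨g'', hg''⟩ := (mem_kernel hKW g').2 (by
      rw [← Category.assoc, hg', ← hpc]
      simp only [Category.assoc, kernel_comp hb₀K, MonObj.comp_one])
    haveI : Surjective (c₃ ≫ c₂ ≫ c₁).left := by rw [Over.comp_left, Over.comp_left]; infer_instance
    refine surjective_of_lift v (c₃ ≫ c₂ ≫ c₁) s₁ ?_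
    rw [← cancel_mono ρ, Category.assoc, hv, ← hj₀, Category.assoc, reassoc_of% hs₁, MonObj.mul_comp,
      GrpObj.inv_comp, ← hg'']
    simp only [Category.assoc]
    rw [kernel_comp' hbK, MonObj.comp_one, inv_one, _root_.mul_one, reassoc_of% hg₀, hg]
  haveI : IsProper R.hom := by
    obtain ⟨v', -, hv'⟩ := CommAlgGrp.exists_desc_of_kernel q₁ hK₁ v (by
      have e : w ≫ w₀ ≫ b = 1 := by rw [← Category.assoc, kernel_comp hbK]
      rw [← cancel_mono ρ, Category.assoc, hv, MonObj.one_comp, ← hj₀, Category.assoc, ← reassoc_of% hiW,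
        e, MonObj.comp_one])
    haveI : Surjective v'.left := by
      haveI : Surjective (q₁.left ≫ v'.left) := by rw [← Over.comp_left, hv']; infer_instance
      exact Surjective.of_comp q₁.left v'.left
    exact proper_of_surjective v'
  haveI : QuasiCompact r.left := GrpQ.quasiCompact_left r
  haveI : IsProper r.left := Groth.Agent.H4.KernelSquare.left_of_hom r ρ hKr (P := @IsProper) inferInstance
  haveI : IsProper B.hom := by rw [← Over.w r]; infer_instance
  exact ⟨W, inferInstance, w ≫ w₀, B, inferInstance, b, inferInstance, inferInstance, hW, hbm, hbs, hbf, hbK,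
    inferInstance, hBs, hBc⟩

end Groth.Agent.Lib.SemiAbExt
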