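import Groth.Agent.Lib.SemiAbExt.Basic
import Groth.Agent.S14595

/-!
# Extensions of semiabelian varieties are commutative
-/

set_option autoImplicit false
set_option backward.isDefEq.respectTransparency false
set_option linter.style.haveILetI false
universe u

open CategoryTheory CategoryTheory.Limits MonoidalCategory CartesianMonoidalCategory MonObj AlgebraicGeometry
open Groth.Agent.Lib Groth.Agent.Lib.GrpQ

namespace Groth.Agent.Lib.SemiAbExt

variable {k : Type u} [Field k]

/-- A morphism to a semiabelian variety which is trivial on both axes is trivial. -/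
theorem eq_one_of_axes {X Y S : Over (Spec (CommRingCat.of k))} [GrpObj X] [GrpObj Y] [GrpObj S]
    [Smooth X.hom] [QuasiCompact X.hom] [ConnectedSpace X.left] [Smooth Y.hom] [QuasiCompact Y.hom]
    [ConnectedSpace Y.left] [LocallyOfFiniteType S.hom] [QuasiCompact S.hom] (hS : IsSA S) (f : X ⊗ Y ⟶ S)
    (h1 : lift (𝟙 X) (toUnit X ≫ η[Y]) ≫ f = 1) (h2 : lift (toUnit Y ≫ η[X]) (𝟙 Y) ≫ f = 1) : f = 1 := by
  haveI := GrpSch.geometricallyReduced_of_smooth_field X.hom
  haveI := GrpSch.geometricallyReduced_of_smooth_field Y.hom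
  haveI : GeometricallyIntegral X.hom := Groth.Agent.H4.HomImage.geometricallyIntegral_of_connected X
  haveI : GeometricallyIntegral Y.hom := Groth.Agent.H4.HomImage.geometricallyIntegral_of_connected Y
  haveI : IsSeparated X.hom := GrpSch.isSeparated_of_field X
  haveI : IsSeparated Y.hom := GrpSch.isSeparated_of_field Y
  have h0 : lift η[X] η[Y] ≫ f = 1 := by
    have := congrArg (η[X] ≫ ·) h1
    rw [MonObj.comp_one, ← Category.assoc, comp_lift, Category.comp_id, ← Category.assoc η[X],
      toUnit_unique (η[X] ≫ toUnit X) (𝟙 _), Category.id_comp] at this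
    exact this
  have h := Groth.Agent.S14595.result k X Y S hS η[X] η[Y] f
  rw [h1, h2, h0] at h
  simpa only [MonObj.comp_one, inv_one, _root_.mul_one] using h

/-- An extension of semiabelian varieties is commutative. -/
theorem isCommMonObj_ext {S₁ G S₂ : Over (Spec (CommRingCat.of k))} [GrpObj S₁] [GrpObj G] [GrpObj S₂]
    [Smooth G.hom] [QuasiCompact G.hom] [ConnectedSpace G.left] [LocallyOfFiniteType S₂.hom] [QuasiCompact S₂.hom]
    (j : S₁ ⟶ G) [IsMonHom j] [IsClosedImmersion j.left] (p : G ⟶ S₂) [IsMonHom p]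
    (hK : AlgGrp.IsKernel j p) (h₁ : IsSA S₁) (h₂ : IsSA S₂) : IsCommMonObj G := by
  haveI : LocallyOfFiniteType S₁.hom := by rw [← Over.w j]; infer_instance
  haveI : QuasiCompact S₁.hom := by rw [← Over.w j]; infer_instance
  obtain ⟨hs₁, hc₁, hm₁⟩ := h₁.props
  obtain ⟨hs₂, hc₂, hm₂⟩ := h₂.props
  haveI := hs₁; haveI := hc₁; haveI := hm₁; haveI := hm₂
  haveI : Mono j := Over.mono_of_mono_left j
  have hη : (η[G] : 𝟙_ (Over (Spec (CommRingCat.of k))) ⟶ G) = 1 := by
    rw [Hom.one_def, toUnit_unique (toUnit _) (𝟙 _), Category.id_comp]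
  have hkill : ∀ {T : Over (Spec (CommRingCat.of k))} (a b : T ⟶ G), (a * b * a⁻¹ * b⁻¹) ≫ p = 1 := by
    intro T a b
    simp only [MonObj.mul_comp, GrpObj.inv_comp]
    rw [mul_comm (a ≫ p), mul_inv_cancel_right, mul_inv_cancel]
  -- `S₁` is central
  have hcen : ∀ (T : Over (Spec (CommRingCat.of k))) (g : T ⟶ G) (x : T ⟶ S₁), g * (x ≫ j) = (x ≫ j) * g := by
    obtain ⟨c, hc⟩ := (mem_kernel hK _).2 (hkill (fst G S₁) (snd G S₁ ≫ j))
    have hc1 : c = 1 := eq_one_of_axes h₁ c
      (by
        rw [← cancel_mono j, Category.assoc, hc]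
        simp only [comp_mul, GrpObj.comp_inv, lift_fst, lift_snd_assoc, Category.assoc, IsMonHom.one_hom,
          ← Hom.one_def, MonObj.one_comp, _root_.mul_one, inv_one, mul_inv_cancel])
      (by
        rw [← cancel_mono j, Category.assoc, hc]
        simp only [comp_mul, GrpObj.comp_inv, lift_fst, lift_snd_assoc, Category.id_comp, Category.assoc,
          ← Hom.one_def, MonObj.one_comp, _root_.one_mul, inv_one, _root_.mul_one, mul_inv_cancel])
    intro T g x
    have h := congrArg (fun e => lift g x ≫ e ≫ j) hc1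
    simp only [hc, MonObj.one_comp, MonObj.comp_one, comp_mul, GrpObj.comp_inv, lift_fst, lift_snd_assoc] at h
    rw [mul_inv_eq_one, mul_inv_eq_iff_eq_mul] at h
    exact h
  obtain ⟨c, hc⟩ := (mem_kernel hK _).2 (hkill (fst G G) (snd G G))
  have hc1 : c = 1 := eq_one_of_axes h₁ c
    (by
      rw [← cancel_mono j, Category.assoc, hc]
      simp only [comp_mul, GrpObj.comp_inv, lift_fst, lift_snd, ← Hom.one_def, MonObj.one_comp, _root_.mul_one,
        inv_one, mul_inv_cancel])
    (by
      rw [← cancel_mono j, Category.assoc, hc]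
      simp only [comp_mul, GrpObj.comp_inv, lift_fst, lift_snd, ← Hom.one_def, MonObj.one_comp, _root_.one_mul,
        inv_one, _root_.mul_one, mul_inv_cancel])
  refine Groth.Agent.H87.CentralExt.isComm_of_points fun X a b => ?_
  have h := congrArg (fun e => lift a b ≫ e ≫ j) hc1
  simp only [hc, MonObj.one_comp, MonObj.comp_one, comp_mul, GrpObj.comp_inv, lift_fst, lift_snd] at h
  rw [mul_inv_eq_one, mul_inv_eq_iff_eq_mul] at h
  exact h

end Groth.Agent.Lib.SemiAbExt
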