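import Groth.Agent.Lib.ImgMT.MaxTorus

/-!
# A divisible group of multiplicative type is a torus
-/

set_option autoImplicit false
set_option linter.unusedSectionVars false
universe u

open CategoryTheory MonoidalCategory CartesianMonoidalCategory MonObj GrpObj AlgebraicGeometry
open CategoryTheory.Limits
open Groth.Agent.Lib.RedPts Groth.Agent.Lib.Tori Groth.Agent.H87 Groth.Agent.Lib.ImgMT

namespace Groth.Agent.Lib.SemiAbExt

set_option linter.style.haveILetI false

/-- A group of multiplicative type whose power maps are coverings is a torus. -/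
theorem isTorus_of_cov {S : Scheme.{u}} (G : Over S) [GrpObj G] (hG : SGA3x.IsMultTypeFT G)
    (hcov : ∀ n : ℕ, 0 < n → IsCov (powN G n)) : Red.IsTorus G := by
  obtain ⟨S', f₀, hfl, hsj, hc, hloc⟩ := hG
  refine ⟨S', f₀, hfl, hsj, hc, fun s' => ?_⟩
  obtain ⟨U, hU, N, _, _, ⟨he⟩⟩ := hloc s'
  let c : (U : Scheme.{u}) ⟶ S := U.ι ≫ f₀
  let E := BaseChange.overIso he
  haveI : IsMonHom E.inv := inferInstanceAs (IsMonHom (BaseChange.overIso he.symm).hom)
  haveI : IsMonHom E.hom := BaseChange.isMonHom_overIso _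
  let D := Red.DS (U : Scheme.{u}) N
  let π : Red.DS (U : Scheme.{u}) (N ⧸ AddCommGroup.torsion N) ⟶ D :=
    Red.DSmap _ (QuotientAddGroup.mk' (AddCommGroup.torsion N))
  haveI : IsMonHom π := Gm.isMonHom_DSmap _
  haveI : Mono π := Loci.mono_DSmap_of_surjective _ (QuotientAddGroup.mk'_surjective _)
  have hdiv : (divSub D).P (𝟙 D) := by
    have h := divSub_chart (G := G) c E.hom E.inv E.hom_inv_id E.inv
    rw [Iso.inv_hom_id] at h
    refine h.1 fun n hn => ?_
    obtain ⟨Y', a, x, ha, hx⟩ := exists_pullback (hcov n hn) (BC.down c E.inv)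
    exact ⟨Y', a, x, ha, hx⟩
  obtain ⟨w, hw⟩ := exists_fac_quot _ (𝟙 D) ((divSub_DS (𝟙 D)).1 hdiv)
  haveI : IsIso π := by
    refine ⟨w, ?_, hw⟩
    rw [← cancel_mono π, Category.assoc, hw, Category.id_comp, Category.comp_id]
  let M := N ⧸ AddCommGroup.torsion N
  haveI : IsAddTorsionFree M := ⟨fun n hn a b h => by
    refine sub_eq_zero.1 ?_
    obtain ⟨m, hm⟩ := QuotientAddGroup.mk_surjective (a - b)
    have h0 : n • (QuotientAddGroup.mk m : M) = 0 := by rw [hm, nsmul_sub, sub_eq_zero]; exact h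
    rw [← hm]
    refine (QuotientAddGroup.eq_zero_iff _).2 ?_
    obtain ⟨k, hk, hk'⟩ := (isOfFinAddOrder_iff_nsmul_eq_zero).1
      (show IsOfFinAddOrder (n • m) from (QuotientAddGroup.eq_zero_iff (n • m)).1 h0)
    exact (isOfFinAddOrder_iff_nsmul_eq_zero).2 ⟨k * n, Nat.mul_pos hk (Nat.pos_of_ne_zero hn), by rw [mul_nsmul', hk']⟩⟩
  haveI : AddGroup.FG M := AddGroup.fg_of_surjective (QuotientAddGroup.mk'_surjective _)
  haveI : Module.Finite ℤ M := Module.Finite.iff_addGroup_fg.mpr inferInstance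
  haveI : Module.Free ℤ M := inferInstance
  exact ⟨U, hU, Module.finrank ℤ M,
    ⟨he ≪≫ (Grp.mkIso' (asIso π)).symm ≪≫ DS.dsIso _ (Module.finBasis ℤ M).equivFun.toAddEquiv.symm⟩⟩

/-- There is a torus. -/
theorem exists_torus (S : Scheme.{u}) : ∃ (D : Over S) (_ : GrpObj D), Red.IsTorus D :=
  ⟨_, _, Basic.isTorus_DS S (Fin 0 → ℤ)⟩

end Groth.Agent.Lib.SemiAbExt
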